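import Mathlib.AlgebraicTopology.CechNerve
import Mathlib.AlgebraicTopology.AlternatingFaceMapComplex
import Mathlib.Algebra.Category.Ring.Colimits
import Mathlib.Algebra.Category.Ring.Constructions
import Mathlib.Algebra.Category.Grp.Preadditive
import Mathlib.Algebra.Homology.ShortComplex.Ab
import Mathlib.Algebra.Homology.ShortComplex.HomologicalComplex
import Mathlib.RingTheory.Flat.FaithfullyFlat.Algebra

/-!
Exactness of the Amitsur complex of a faithfully flat algebra.
-/

set_option autoImplicit false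
set_option linter.style.haveILetI false
set_option linter.unusedSectionVars false
set_option backward.isDefEq.respectTransparency.types false

universe u

open CategoryTheory CategoryTheory.Limits TensorProduct Simplicial

namespace Groth.L28.Amitsur

variable (R A : Type u) [CommRing R] [CommRing A] [Algebra R A]

/-- the structure arrow -/
noncomputable abbrev str : Arrow CommRingCat.{u} := Arrow.mk (CommRingCat.ofHom (algebraMap R A))

/-- the terms of the conerve -/
noncomputable abbrev N (n : ℕ) : CommRingCat.{u} := (str R A).cechConerve.obj ⦋n⦌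

/-- the vertices -/
noncomputable abbrev pr (n : ℕ) (k : Fin (n + 1)) : CommRingCat.of A ⟶ N R A n :=
  WidePushout.ι (fun _ : Fin (n + 1) => (str R A).hom) k

/-- the base -/
noncomputable abbrev bs (n : ℕ) : CommRingCat.of R ⟶ N R A n :=
  WidePushout.head (fun _ : Fin (n + 1) => (str R A).hom)

/-- the cofaces -/
noncomputable abbrev δ (n : ℕ) (j : Fin (n + 2)) : N R A n ⟶ N R A (n + 1) := (str R A).cechConerve.δ j

variable {R A}

theorem str_pr (n : ℕ) (k : Fin (n + 1)) : (str R A).hom ≫ pr R A n k = bs R A n :=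
  WidePushout.arrow_ι (fun _ : Fin (n + 1) => (str R A).hom) k

theorem pr_δ (n : ℕ) (j : Fin (n + 2)) (k : Fin (n + 1)) : pr R A n k ≫ δ R A n j = pr R A (n + 1) (j.succAbove k) :=
  WidePushout.ι_desc _ _ _ _ k

theorem bs_δ (n : ℕ) (j : Fin (n + 2)) : bs R A n ≫ δ R A n j = bs R A (n + 1) := by
  rw [← str_pr n 0, Category.assoc, pr_δ]
  exact str_pr _ _

theorem hom_ext {n : ℕ} {T : CommRingCat.{u}} (g₁ g₂ : N R A n ⟶ T)
    (h : ∀ k, pr R A n k ≫ g₁ = pr R A n k ≫ g₂) : g₁ = g₂ := by
  refine WidePushout.hom_ext _ _ _ h ?_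
  show bs R A n ≫ g₁ = bs R A n ≫ g₂
  rw [← str_pr n 0, Category.assoc, Category.assoc, h]

/-- forgetting the last vertex -/
noncomputable def dup (n : ℕ) : N R A (n + 1) ⟶ N R A n :=
  WidePushout.desc (bs R A n) (Fin.lastCases (pr R A n (Fin.last n)) fun k => pr R A n k) fun k => by
    induction k using Fin.lastCases with
    | last => rw [Fin.lastCases_last]; exact str_pr n _
    | cast k => rw [Fin.lastCases_castSucc]; exact str_pr n _

theorem pr_dup (n : ℕ) (k : Fin (n + 2)) :
    pr R A (n + 1) k ≫ dup n = Fin.lastCases (motive := fun _ => CommRingCat.of A ⟶ N R A n) (pr R A n (Fin.last n))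
      (fun k => pr R A n k) k :=
  WidePushout.ι_desc _ _ _ _ k

theorem δ_last_dup (n : ℕ) : δ R A n (Fin.last n).castSucc ≫ dup n = 𝟙 _ := by
  refine hom_ext _ _ fun k => ?_
  rw [← Category.assoc, pr_δ, pr_dup, Category.comp_id]
  induction k using Fin.lastCases with
  | last => rw [Fin.succAbove_of_le_castSucc _ _ le_rfl, Fin.succ_last, Fin.lastCases_last]
  | cast k => rw [Fin.succAbove_of_castSucc_lt _ _ (by simp [Fin.lt_def]), Fin.lastCases_castSucc]

theorem δ_dup (n : ℕ) (j : Fin (n + 1)) :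
    δ R A (n + 1) j.castSucc.castSucc ≫ dup (n + 1) = dup n ≫ δ R A n j.castSucc := by
  refine hom_ext _ _ fun k => ?_
  rw [← Category.assoc, ← Category.assoc, pr_δ, pr_dup, pr_dup]
  induction k using Fin.lastCases with
  | last =>
    rw [Fin.lastCases_last, pr_δ,
      Fin.succAbove_of_le_castSucc _ _ (by simp [Fin.le_def]), Fin.succ_last, Fin.lastCases_last,
      Fin.succAbove_of_le_castSucc _ _ (by simp [Fin.le_def]; omega), Fin.succ_last]
  | cast k =>
    rw [Fin.lastCases_castSucc, pr_δ]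
    rcases lt_or_ge k.castSucc j.castSucc with h | h
    · rw [Fin.succAbove_of_castSucc_lt _ _ h, Fin.succAbove_of_castSucc_lt _ _ (Fin.castSucc_lt_castSucc_iff.2 h),
        Fin.lastCases_castSucc]
    · rw [Fin.succAbove_of_le_castSucc _ _ h, Fin.succAbove_of_le_castSucc _ _ (Fin.castSucc_le_castSucc_iff.2 h),
        Fin.succ_castSucc, Fin.lastCases_castSucc]

/-- the differential -/
noncomputable def dR (n : ℕ) : N R A n →+ N R A (n + 1) :=
  ∑ j : Fin (n + 2), (-1 : ℤ) ^ (j : ℕ) • (δ R A n j).hom.toAddMonoidHom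

/-- the differential without the last coface -/
noncomputable def dS (n : ℕ) : N R A (n + 1) →+ N R A (n + 2) :=
  ∑ j : Fin (n + 2), (-1 : ℤ) ^ (j : ℕ) • (δ R A (n + 1) j.castSucc).hom.toAddMonoidHom

theorem dR_apply (n : ℕ) (x : N R A n) : dR n x = ∑ j : Fin (n + 2), (-1 : ℤ) ^ (j : ℕ) • δ R A n j x := by
  simp [dR]

theorem dS_apply (n : ℕ) (x : N R A (n + 1)) :
    dS n x = ∑ j : Fin (n + 2), (-1 : ℤ) ^ (j : ℕ) • δ R A (n + 1) j.castSucc x := by
  simp [dS]

theorem exact_dS (n : ℕ) (z : N R A (n + 2)) (hz : dS (n + 1) z = 0) : ∃ y, dS n y = z := by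
  have h := congrArg (dup (R := R) (A := A) (n + 2)) hz
  rw [dS_apply, map_sum, Fin.sum_univ_castSucc] at h
  simp only [map_zsmul, ← CommRingCat.comp_apply, δ_dup, δ_last_dup, map_zero, Fin.val_castSucc, Fin.val_last,
    CommRingCat.id_apply] at h
  simp only [CommRingCat.comp_apply] at h
  rw [← dS_apply] at h
  refine ⟨(-1 : ℤ) ^ (n + 1) • dup (n + 1) z, ?_⟩
  rw [map_zsmul, eq_neg_of_add_eq_zero_left h, smul_neg, smul_smul, pow_succ, pow_succ, ← mul_assoc]
  rcases neg_one_pow_eq_or ℤ n with e | e <;> simp [e, pow_succ]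

theorem exists_theta (n : ℕ) :
    letI := (bs R A n).hom.toAlgebra
    ∃ θ : N R A n ⊗[R] A ≃+ N R A (n + 1),
      ∀ y b, θ (y ⊗ₜ b) = δ R A n (Fin.last (n + 1)) y * pr R A (n + 1) (Fin.last (n + 1)) b := by
  letI := (bs R A n).hom.toAlgebra
  letI := (bs R A (n + 1)).hom.toAlgebra
  let a : N R A n →ₐ[R] N R A (n + 1) :=
    { (δ R A n (Fin.last (n + 1))).hom with commutes' := fun r => ConcreteCategory.congr_hom (bs_δ n (Fin.last (n + 1))) r }
  let b : A →ₐ[R] N R A (n + 1) :=
    { (pr R A (n + 1) (Fin.last (n + 1))).hom with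
      commutes' := fun r => ConcreteCategory.congr_hom (str_pr (R := R) (A := A) (n + 1) (Fin.last (n + 1))) r }
  let ψ : N R A n ⊗[R] A →ₐ[R] N R A (n + 1) := Algebra.TensorProduct.lift a b fun _ _ => .all _ _
  let φ : N R A (n + 1) ⟶ CommRingCat.of (N R A n ⊗[R] A) :=
    WidePushout.desc (CommRingCat.ofHom (algebraMap R (N R A n ⊗[R] A)))
      (Fin.lastCases (CommRingCat.ofHom (Algebra.TensorProduct.includeRight : A →ₐ[R] N R A n ⊗[R] A).toRingHom)
        fun k => pr R A n k ≫ CommRingCat.ofHom (Algebra.TensorProduct.includeLeftRingHom : N R A n →+* N R A n ⊗[R] A)) fun k => by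
      induction k using Fin.lastCases with
      | last =>
        rw [Fin.lastCases_last]
        exact CommRingCat.hom_ext (RingHom.ext fun r => (Algebra.TensorProduct.includeRight : A →ₐ[R] N R A n ⊗[R] A).commutes r)
      | cast k =>
        rw [Fin.lastCases_castSucc, ← Category.assoc, str_pr]
        rfl
  have hφ : ∀ k, pr R A (n + 1) k ≫ φ = _ := fun k => WidePushout.ι_desc _ _ _ _ k
  have h₁ : φ ≫ CommRingCat.ofHom ψ.toRingHom = 𝟙 _ := by
    refine hom_ext _ _ fun k => ?_
    rw [← Category.assoc, hφ, Category.comp_id]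
    induction k using Fin.lastCases with
    | last =>
      rw [Fin.lastCases_last]
      refine CommRingCat.hom_ext (RingHom.ext fun x => ?_)
      show ψ (1 ⊗ₜ x) = _
      simp [ψ, b]
    | cast k =>
      rw [Fin.lastCases_castSucc, Category.assoc, ← Fin.succAbove_last_apply, ← pr_δ]
      refine congrArg (pr R A n k ≫ ·) (CommRingCat.hom_ext (RingHom.ext fun y => ?_))
      show ψ (y ⊗ₜ 1) = _
      simp [ψ, a]
  have h₂ : δ R A n (Fin.last (n + 1)) ≫ φ =
      CommRingCat.ofHom (Algebra.TensorProduct.includeLeftRingHom : N R A n →+* N R A n ⊗[R] A) := by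
    refine hom_ext _ _ fun k => ?_
    rw [← Category.assoc, pr_δ, hφ, Fin.succAbove_last, Fin.lastCases_castSucc]
    rfl
  refine ⟨AddEquiv.ofBijective ψ.toRingHom.toAddMonoidHom ⟨?_, fun x => ⟨φ x, ConcreteCategory.congr_hom h₁ x⟩⟩,
    fun y c => Algebra.TensorProduct.lift_tmul a b (fun _ _ => .all _ _) y c⟩
  have h₃ : ∀ t, φ (ψ t) = t := fun t => by
    induction t using TensorProduct.induction_on with
    | zero => simp
    | tmul y c =>
      rw [show ψ (y ⊗ₜ[R] c) = δ R A n (Fin.last (n + 1)) y * pr R A (n + 1) (Fin.last (n + 1)) c from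
        Algebra.TensorProduct.lift_tmul a b (fun _ _ => .all _ _) y c, map_mul,
        ← CommRingCat.comp_apply, ← CommRingCat.comp_apply, h₂, hφ, Fin.lastCases_last]
      show (y ⊗ₜ[R] (1 : A)) * ((1 : N R A n) ⊗ₜ[R] c) = _
      rw [Algebra.TensorProduct.tmul_mul_tmul, mul_one, one_mul]
    | add s t hs ht => rw [map_add, map_add, hs, ht]
  exact Function.LeftInverse.injective h₃

theorem exact_dR [Module.FaithfullyFlat R A] (n : ℕ) (x : N R A (n + 1)) (hdd : ∀ y : N R A n, dR (n + 1) (dR n y) = 0)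
    (hx : dR (n + 1) x = 0) : ∃ y, dR n y = x := by
  letI : ∀ m, Algebra R (N R A m) := fun m => (bs R A m).hom.toAlgebra
  have hsmul : ∀ (m : ℕ) (a : R) (w : N R A m), dR m (a • w) = a • dR m w := by
    intro m a w
    rw [dR_apply, dR_apply, Finset.smul_sum]
    refine Finset.sum_congr rfl fun j _ => ?_
    rw [smul_comm a]
    refine congrArg _ ?_
    show δ R A m j (bs R A m a * w) = bs R A (m + 1) a * _
    rw [map_mul, ← CommRingCat.comp_apply, bs_δ]
  let D : ∀ m, N R A m →ₗ[R] N R A (m + 1) := fun m => { toFun := dR m, map_add' := map_add _, map_smul' := hsmul m }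
  choose θ hθ using fun m => exists_theta (R := R) (A := A) m
  have hcomp : ∀ m t, θ (m + 1) (LinearMap.rTensor A (D m) t) = dS m (θ m t) := by
    intro m t
    induction t using TensorProduct.induction_on with
    | zero => simp
    | tmul y b =>
      rw [LinearMap.rTensor_tmul, hθ, hθ]
      show δ R A (m + 1) _ (dR m y) * _ = _
      rw [dR_apply, dS_apply, map_sum, Finset.sum_mul]
      refine Finset.sum_congr rfl fun j _ => ?_
      rw [map_zsmul, smul_mul_assoc, map_mul]
      refine congrArg _ (congrArg₂ (· * ·) ?_ ?_)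
      · rw [← CommRingCat.comp_apply, ← CommRingCat.comp_apply]
        refine ConcreteCategory.congr_hom (hom_ext _ _ fun k => ?_) y
        rw [← Category.assoc, ← Category.assoc, pr_δ, pr_δ, pr_δ, pr_δ, Fin.succAbove_last, Fin.succAbove_last,
          Fin.castSucc_succAbove_castSucc]
      · rw [← CommRingCat.comp_apply, pr_δ, Fin.succAbove_of_le_castSucc _ _ (Fin.castSucc_le_castSucc_iff.2 (Fin.le_last j)),
          Fin.succ_last]
    | add a b ha hb => simp only [map_add, ha, hb]
  have hex : Function.Exact (LinearMap.rTensor A (D n)) (LinearMap.rTensor A (D (n + 1))) := by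
    intro t
    constructor
    · intro ht
      obtain ⟨y, hy⟩ := exact_dS n (θ (n + 1) t) (by rw [← hcomp, ht, map_zero])
      obtain ⟨t', rfl⟩ := (θ n).surjective y
      exact ⟨t', (θ (n + 1)).injective ((hcomp n t').trans hy)⟩
    · rintro ⟨t', rfl⟩
      rw [← LinearMap.comp_apply, ← LinearMap.rTensor_comp,
        show D (n + 1) ∘ₗ D n = 0 from LinearMap.ext hdd, LinearMap.rTensor_zero, LinearMap.zero_apply]
  exact ((Module.FaithfullyFlat.rTensor_exact_iff_exact R A (D n) (D (n + 1))).1 hex x).1 hx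

theorem exactAt_conerve [Module.FaithfullyFlat R A] (n : ℕ) :
    (AlgebraicTopology.AlternatingCofaceMapComplex.obj
      ((str R A).cechConerve ⋙ forget₂ CommRingCat RingCat ⋙ forget₂ RingCat AddCommGrpCat)).ExactAt (n + 1) := by
  let S := (str R A).cechConerve ⋙ forget₂ CommRingCat RingCat ⋙ forget₂ RingCat AddCommGrpCat
  let K := AlgebraicTopology.AlternatingCofaceMapComplex.obj S
  have hd : ∀ (m : ℕ) (z : N R A m), K.d m (m + 1) z = dR m z := fun m z => by
    rw [show K.d m (m + 1) = AlgebraicTopology.AlternatingCofaceMapComplex.objD S m from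
      CochainComplex.of_d (fun n => S.obj ⦋n⦌) (AlgebraicTopology.AlternatingCofaceMapComplex.objD S) m,
      dR_apply]
    rw [AlgebraicTopology.AlternatingCofaceMapComplex.objD]
    let Φ : (S.obj ⦋m⦌ ⟶ S.obj ⦋m + 1⦌) →+ (S.obj ⦋m⦌ →+ S.obj ⦋m + 1⦌) :=
      AddCommGrpCat.homAddEquiv.toAddMonoidHom
    refine (congrArg (fun g : S.obj ⦋m⦌ →+ S.obj ⦋m + 1⦌ => g z)
      (map_sum Φ (fun j : Fin (m + 2) => (-1 : ℤ) ^ (j : ℕ) • CosimplicialObject.δ S j) Finset.univ)).trans ?_
    refine (AddMonoidHom.finsetSum_apply _ _ _).trans (Finset.sum_congr rfl fun j _ => rfl)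
  rw [HomologicalComplex.exactAt_iff' _ n (n + 1) (n + 2) (by simp) (by simp), ShortComplex.ab_exact_iff]
  intro x hx
  have hdd : ∀ y : N R A n, dR (n + 1) (dR n y) = 0 := fun y => by
    rw [← hd n y, ← hd (n + 1)]
    exact ConcreteCategory.congr_hom (K.d_comp_d n (n + 1) (n + 2)) y
  obtain ⟨y, hy⟩ := exact_dR n (x : N R A (n + 1)) hdd ((hd (n + 1) x).symm.trans hx)
  exact ⟨y, (hd n y).trans hy⟩

end Groth.L28.Amitsur
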